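import Cfsg.Agent.BlockK.K3

/-! Odd order automorphism groups fixing a cyclic subgroup of index eight. -/

set_option autoImplicit false

namespace CF.E8b

open Cfsg Subgroup CF.Block CF.BlockB CF.BlockK Function
open scoped IsMulCommutative

section

variable {A Q : Type*} [Group A] [Finite A] [CommGroup Q] [Fintype Q] {φ : A →* MulAut Q}
  (hQ : IsPGroup 2 Q) (hA : ¬ 2 ∣ Nat.card A) (hφ : Injective φ) {z : Q} (hz : ∀ a, φ a z = z)
  (h8 : (zpowers z).index = 8)
include hQ hA hz h8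

omit [Finite A] [Fintype Q] hQ hA h8 in
theorem B_zp (a : A) : zpowers z ≤ Fx (φ a) := zpowers_le_of_mem (mem_Fx.2 (hz a))

theorem B_index_le {u : Q} (hu : u ∉ zpowers z) : (Sf φ u).index ≤ 7 := by
  rw [index_Sf]
  have h1 : ({1}ᶜ : Set (Q ⧸ zpowers z)).ncard = 7 := by
    rw [Set.ncard_compl, Set.ncard_singleton, ← index_eq_card, h8]
  rw [← h1]
  refine Set.ncard_le_ncard_of_injOn (fun x : Q => (x : Q ⧸ zpowers z)) ?_ ?_
  · rintro _ ⟨a, rfl⟩ h
    have h2 : φ a u ∈ zpowers z := (QuotientGroup.eq_one_iff _).1 h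
    have h3 := mem_Fx.1 (B_zp hz a⁻¹ h2)
    rw [← MulAut.mul_apply, ← map_mul, inv_mul_cancel, map_one, MulAut.one_apply] at h3
    exact hu (h3 ▸ h2)
  · rintro _ ⟨a, rfl⟩ _ ⟨b, rfl⟩ h
    have h2 : φ (b * a⁻¹) (φ a u) = φ b u := by
      rw [← MulAut.mul_apply, ← map_mul, inv_mul_cancel_right]
    have h3 := fix_of_act (φ := φ) Nat.prime_two hQ hA (a := b * a⁻¹) (x := φ a u) (by
      rw [h2]; exact mem_Fx.1 (B_zp hz _ (QuotientGroup.eq.1 h)))
    exact h3.symm.trans h2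

include hφ

theorem B_st {u : Q} (hu : u ∉ zpowers z) : Nat.card (Sf φ u) ∣ 3 := by
  obtain ⟨ψ, hψ⟩ := exists_quot_act Nat.prime_two hQ hA hφ (Sf φ u) (zpowers z ⊔ zpowers u)
    fun a ha x hx => mem_Fx.1 ((sup_le (B_zp hz a) (zpowers_le_of_mem (mem_Fx.2 ha))) hx)
  refine G4 (hQ.to_quotient _) (not_dvd_sub hA _) hψ ?_
  have h1 := relIndex_mul_index (le_sup_left : zpowers z ≤ zpowers z ⊔ zpowers u)
  have h2 : (zpowers z).relIndex (zpowers z ⊔ zpowers u) ≠ 1 := fun h =>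
    hu (relIndex_eq_one.1 h (mem_sup_right (mem_zpowers u)))
  rw [h8] at h1
  rw [← index_eq_card]
  rcases h3 : (zpowers z).relIndex (zpowers z ⊔ zpowers u) with _ | _ | n
  · rw [h3] at h1; omega
  · exact absurd h3 h2
  · rw [h3] at h1; nlinarith

theorem B_gen : (Nat.card A ∣ 3 ∧ ∑ u : Q, Nat.card (Sf φ u) ^ 2 = Nat.card A * Nat.card Q) ∨
    ((Nat.card A = 7 ∨ Nat.card A = 21) ∧ ∀ u ∉ zpowers z, 7 * Nat.card (Sf φ u) = Nat.card A) := by
  classical
  obtain ⟨ψ, hψ⟩ := exists_quot_act Nat.prime_two hQ hA hφ ⊤ (zpowers z)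
    fun a _ x hx => mem_Fx.1 (B_zp hz a hx)
  have h := G8 (hQ.to_quotient _) (not_dvd_sub hA ⊤) hψ (by rw [← index_eq_card, h8])
  rw [card_top] at h
  refine h.imp (fun h => ⟨h, ?_⟩) fun h => ?_
  · rcases Nat.prime_three.eq_one_or_self_of_dvd _ h with h1 | h1
    · rw [Finset.sum_congr rfl (g := fun _ => 1) fun u _ => by
        rw [Nat.dvd_one.1 ((Sf φ u).card_subgroup_dvd_card.trans h1.dvd), one_pow], h1]
      simp
    have := Finite.one_lt_card_iff_nontrivial.1 (show 1 < Nat.card A by omega)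
    obtain ⟨a, ha⟩ := exists_ne (1 : A)
    have ht : ⊤ = zpowers a := eq_zpowers (by rw [card_top, h1]; exact Nat.prime_three)
      (mem_top a) ha
    have i1 := dvd_index_sub_one Nat.prime_two hQ (σ := φ a) Nat.prime_three (by norm_num)
      (by rw [← map_pow, ← h1, pow_card_eq_one', map_one])
    have i2 : (Fx (φ a)).index ∣ 8 := h8 ▸ index_dvd_of_le (B_zp hz a)
    have i3 : (Fx (φ a)).index ≠ 1 := fun h =>
      Fx_ne_top (fun h => ha (hφ (h.trans (map_one φ).symm))) (index_eq_one.1 h)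
    have i4 : (Fx (φ a)).index = 4 := by
      have := Nat.le_of_dvd (by norm_num) i2
      interval_cases (Fx (φ a)).index <;> omega
    have i5 : (Finset.univ.filter (· ∈ Fx (φ a))).card = Nat.card (Fx (φ a)) := by
      rw [← Fintype.card_subtype, Nat.card_eq_fintype_card]
    rw [Finset.sum_congr rfl (g := fun u => 1 + if u ∈ Fx (φ a) then 8 else 0) fun u _ => by
      split_ifs with hu
      · rw [show Sf φ u = ⊤ from eq_top_iff.2 fun b hb =>
          mem_Sf.2 (fix_of_zpowers (ht ▸ hb) (mem_Fx.1 hu)), card_top, h1]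
        rfl
      · rcases Nat.prime_three.eq_one_or_self_of_dvd _ (h1 ▸ (Sf φ u).card_subgroup_dvd_card)
          with h2 | h2
        · rw [h2]; rfl
        · exact absurd (mem_Sf.1 (((card_eq_iff_eq_top _).1 (h2.trans h1.symm)).ge (mem_top a))) hu,
      Finset.sum_add_distrib, ← Finset.sum_filter, Finset.sum_const, Finset.sum_const, i5,
      Finset.card_univ, ← Nat.card_eq_fintype_card, ← (Fx (φ a)).card_mul_index, i4, h1]
    simp only [smul_eq_mul]
    ring
  · have h1 : ∀ u ∉ zpowers z, 7 * Nat.card (Sf φ u) = Nat.card A := fun u hu => by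
      have i1 := (Sf φ u).card_mul_index
      have i2 := B_index_le hQ hA hz h8 hu
      have i3 : (Sf φ u).index ≠ 0 := index_ne_zero_of_finite
      rcases Nat.prime_three.eq_one_or_self_of_dvd _ (B_st hQ hA hφ hz h8 hu) with h2 | h2 <;>
        rw [h2] at i1 ⊢ <;> omega
    refine ⟨?_, h1⟩
    obtain ⟨u, hu⟩ : ∃ u, u ∉ zpowers z := by
      by_contra! h2
      rw [(eq_top_iff' _).2 h2, index_top] at h8
      omega
    have := h1 u hu
    rcases Nat.prime_three.eq_one_or_self_of_dvd _ (B_st hQ hA hφ hz h8 hu) with h2 | h2 <;> omega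

end

theorem B_cases {P : Type*} [Group P] [Fintype P] [IsMulCommutative P] (hP : IsPGroup 2 P)
    (E : Subgroup (MulAut P)) (hE : ¬ 2 ∣ Nat.card E) {z : P} (hz : ∀ σ ∈ E, σ z = z)
    (h8 : (zpowers z).index = 8) :
    (Nat.card E ∣ 3 ∧ ∑ u : P, Nat.card (St E u) ^ 2 = Nat.card E * Nat.card P) ∨
      ((Nat.card E = 7 ∨ Nat.card E = 21) ∧
        ∀ u ∉ zpowers z, 7 * Nat.card (St E u) = Nat.card E) := by
  simp only [card_St_eq]
  exact B_gen (φ := E.subtype) hP hE E.subtype_injective (fun a => hz a a.2) h8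

end CF.E8b
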