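import Cfsg.Agent.BlockK.K7

/-! Counting characters of a block with abelian defect group by subsections -/

set_option autoImplicit false

namespace CF.E8b
open Cfsg MonoidAlgebra Subgroup CF.Block CF.BlockB CF.BlockK Finset

universe u

variable {p : ℕ} {M : Ideal AlgInt} {G : Type u} [Group G] [Finite G] {B : Set (IrrCharacter G)}
  {P : Subgroup G} {e : (k M)[G]}

theorem C_card [Fintype P] (hM : IsPModular p M) (hB : IsPBlock M B)
    (he : MaxPair p ⊤ (eb M B) P e) (hab : P ≤ centralizer (P : Set G)) :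
    Nat.card B * Nat.card (FE P e) =
      ∑ u : P, blockRank p (sbl p P e u) * Nat.card (St (FE P e) u) := by
  classical
  have := Fintype.ofFinite G
  have h1 := sum_inner_bst hM hB he.bpair (fStable_const (p := p) (P := P) (e := e) 1)
  rw [sum_congr rfl fun χ hχ => by
    rw [bst_one hM hB he (inSpan_irr (mem_filter.1 hχ).2), Char.inner_irr_self χ.2]] at h1
  rw [sum_const, nsmul_one, ← card_eq_card_filter] at h1
  apply Nat.cast_injective (R := ℂ)
  push_cast
  rw [h1, sum_mul]
  refine sum_congr rfl fun u _ => ?_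
  have h2 := fcard_ne_zero hM he.bpair.pair u.2
  have h3 : Nat.card (FE P e) = fcard p P e u * Nat.card (St (FE P e) u) := by
    rw [fcard_eq_index hM he hab, card_St_eq, index_mul_card]
  rw [h3]
  push_cast
  have h4 : (fcard p P e u : ℂ) ≠ 0 := Nat.cast_ne_zero.2 h2
  field_simp

theorem C_le {Q : Type*} [Group Q] [Finite Q] (E : Subgroup (MulAut Q)) (u : Q) :
    Nat.card (St E u) ≤ Nat.card E := card_le_of_le inf_le_left

theorem C_three [Fintype P] (hM : IsPModular p M) (hB : IsPBlock M B)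
    (he : MaxPair p ⊤ (eb M B) P e) (hab : P ≤ centralizer (P : Set G))
    (h3 : Nat.card (FE P e) ≤ 3)
    (h : ∑ u : P, Nat.card (St (FE P e) u) ^ 2 = Nat.card (FE P e) * Nat.card P) :
    Nat.card B = Nat.card P := by
  have h1 := C_card hM hB he hab
  rw [sum_congr rfl fun u _ => by
    rw [rank_sbl_of_le_three hM hB he hab ((C_le _ u).trans h3), ← sq], h, mul_comm] at h1
  exact Nat.eq_of_mul_eq_mul_left Nat.card_pos h1

theorem C_St {Q : Type*} [Group Q] {E : Subgroup (MulAut Q)} {u : Q} (h : ∀ σ ∈ E, σ u = u) :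
    St E u = E := inf_eq_left.2 fun σ hσ => h σ hσ

theorem C_seven (hM : IsPModular p M) (hB : IsPBlock M B)
    (he : MaxPair p ⊤ (eb M B) P e) (hab : P ≤ centralizer (P : Set G)) {z : P}
    (hz : ∀ σ ∈ FE P e, σ z = z) (h8 : (zpowers z).index = 8) {s : ℕ} (hs : s ≤ 3)
    (hE : Nat.card (FE P e) = 7 * s)
    (h : ∀ u ∉ zpowers z, 7 * Nat.card (St (FE P e) u) = Nat.card (FE P e)) :
    Nat.card B = Nat.card (zpowers z) * (blockRank p B + s) := by
  classical
  have := Fintype.ofFinite P
  have h1 := C_card hM hB he hab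
  have hf : ∀ u ∈ zpowers z, ∀ σ ∈ FE P e, σ u = u := fun u ⟨i, hi⟩ σ hσ => by
    rw [← hi, map_zpow, hz σ hσ]
  have h2 : ∀ u : P, blockRank p (sbl p P e u) * Nat.card (St (FE P e) u) =
      if u ∈ zpowers z then blockRank p B * (7 * s) else s * s := fun u => by
    split_ifs with hu
    · rw [rank_sbl_eq hM hB he hab (hf u hu), C_St (hf u hu), hE]
    · have h3 : Nat.card (St (FE P e) u) = s := by have := h u hu; omega
      rw [rank_sbl_of_le_three hM hB he hab (h3 ▸ hs), h3]
  have h4 : #{u : P | u ∈ zpowers z} = Nat.card (zpowers z) := by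
    rw [Nat.card_eq_fintype_card, Fintype.card_subtype]
  have h5 := card_filter_add_card_filter_not (s := (univ : Finset P)) (· ∈ zpowers z)
  have h6 := (zpowers z).index_mul_card
  rw [h4, card_univ, ← Nat.card_eq_fintype_card, ← h6, h8] at h5
  have h7 : #{u : P | u ∉ zpowers z} = 7 * Nat.card (zpowers z) := by omega
  rw [sum_congr rfl fun u _ => h2 u, sum_ite, sum_const, sum_const, h4, h7, hE] at h1
  have h0 : 0 < 7 * s := hE ▸ Nat.card_pos
  refine Nat.eq_of_mul_eq_mul_right h0 ?_
  rw [h1, smul_eq_mul, smul_eq_mul]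
  ring

end CF.E8b
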