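import Cfsg.Agent.BlockK.K7
import Cfsg.Agent.S4540

set_option autoImplicit false

namespace CF.E8b

open Cfsg Subgroup CF.Block CF.BlockB CF.BlockK

theorem H_count {ι : Type*} [Finite ι] (B : Set ι) (h : ι → ℕ)
    (hle : 3 * Nat.card {χ : ι // χ ∈ B ∧ h χ = 0} +
      2 * (∑ᶠ χ ∈ {χ : ι | χ ∈ B ∧ 1 ≤ h χ}, 2 ^ h χ) ≤ 3 * Nat.card B) :
    ∀ χ ∈ B, h χ = 0 := by
  classical
  have := Fintype.ofFinite ι
  rw [finsum_mem_eq_finite_toFinset_sum _ (Set.toFinite _)] at hle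
  set S := (Set.toFinite {χ : ι | χ ∈ B ∧ 1 ≤ h χ}).toFinset with hS
  have h1 : S.card * 2 ≤ ∑ χ ∈ S, 2 ^ h χ := by
    rw [← smul_eq_mul]
    refine Finset.card_nsmul_le_sum _ _ _ fun χ hχ => ?_
    have : 1 ≤ h χ := ((Set.Finite.mem_toFinset _).1 hχ).2
    calc 2 = 2 ^ 1 := rfl
      _ ≤ 2 ^ h χ := Nat.pow_le_pow_right (by norm_num) this
  have h2 : Nat.card B ≤ Nat.card {χ : ι // χ ∈ B ∧ h χ = 0} + S.card := by
    rw [Nat.card_eq_fintype_card, Nat.card_eq_fintype_card, Fintype.card_subtype,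
      Fintype.card_subtype]
    refine le_trans (Finset.card_le_card fun χ hχ => ?_) (Finset.card_union_le _ _)
    simp only [Finset.mem_filter, Finset.mem_univ, true_and, Finset.mem_union, hS,
      Set.Finite.mem_toFinset, Set.mem_ofPred_eq] at hχ ⊢
    by_cases h0 : h χ = 0
    · exact Or.inl ⟨hχ, h0⟩
    · exact Or.inr ⟨hχ, Nat.one_le_iff_ne_zero.2 h0⟩
  have h3 : S.card = 0 := by omega
  intro χ hχ
  by_contra h0
  have : χ ∈ S := (Set.Finite.mem_toFinset _).2 ⟨hχ, Nat.one_le_iff_ne_zero.2 h0⟩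
  rw [Finset.card_eq_zero.1 h3] at this
  exact absurd this (Finset.notMem_empty _)

theorem H_zero {M : Ideal AlgInt} {G : Type*} [Group G] [Finite G] {B : Set (IrrCharacter G)}
    {P : Subgroup G} {e : MonoidAlgebra (k M) G} (hM : IsPModular 2 M) (hB : IsPBlock M B)
    (hD : IsDefectGroup 2 M B P) (he : MaxPair 2 ⊤ (eb M B) P e)
    (hab : P ≤ centralizer (P : Set G)) {u : G} (hu : u ∈ P)
    (h3 : blockRank 2 (sbl 2 P e u) ≤ 3) (hk : Nat.card B = Nat.card P) :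
    ∀ χ ∈ B, blockHeight 2 B (χ : G → ℂ) = 0 := by
  have hind := isInducedBlock_sbl hM hB he.bpair hu
  have h1 : P ≤ Cen u := le_Cen_of_comm hab hu
  have h := (Cfsg.Agent.S4540.result M hM B hB P hD u hu (fun d hd => mem_Cen.1 (h1 hd)) _ hind
    ((isDefectGroup_iff_subgroupOf hM hind.1 h1).2 (isDefGrp_sbl_of_le hM he hu h1)) h3).2
  rw [← BlockB.card_defectGroup hM hB hD, ← hk] at h
  exact H_count B (fun χ => blockHeight 2 B (χ : G → ℂ)) h

end CF.E8b
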