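import Cfsg.Agent.E8b.Z
import Cfsg.Agent.Evn.A
import Cfsg.Agent.Kkl.B

/-! Blocks with elementary abelian defect group of order eight -/

set_option autoImplicit false

namespace CF.E8b
open Cfsg MonoidAlgebra Subgroup CF.Block CF.BlockB CF.BlockK Finset

universe u

theorem Y_core : Core.{u} := by
  intro M G _ _ B P e hM hB he h8 hel h7
  have : Fact (Nat.Prime 2) := ⟨Nat.prime_two⟩
  have := BlockB.charP_k hM
  have := Fintype.ofFinite B
  refine CF.Kkl.card_eq_eight hM hB he h8 hel h7 fun a ha => ?_
  exact CF.Evn.even_norm hM hB ((isDefectGroup_iff hM hB P).2 he.isDefGrp)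
    (fun h => by simp [h] at h8) hel (Φ := th a)
    (Char.gen_sum _ fun i _ => Char.gen_intCast_smul (Char.gen_of_irr i.1.2) (a i))
    ha (inSpan_th a) (by rw [inner_th_th]; simp only [sq])

end CF.E8b
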