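import Cfsg.Agent.E8b.A
import Cfsg.Agent.E8b.B
import Cfsg.Agent.E8b.C
import Cfsg.Agent.E8b.H

/-! Blocks with defect group `C_(2^n) × C₂³` -/

set_option autoImplicit false

namespace CF.E8b
open Cfsg MonoidAlgebra Subgroup CF.Block CF.BlockB CF.BlockK Finset

universe u

/-- blocks with elementary abelian defect group of order eight -/
def Core : Prop := ∀ {M : Ideal AlgInt} {G : Type u} [Group G] [Fintype G]
  {B : Set (IrrCharacter G)} {P : Subgroup G} {e : (k M)[G]}, IsPModular 2 M → IsPBlock M B →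
    MaxPair 2 ⊤ (eb M B) P e → Nat.card P = 8 → (∀ x ∈ P, x * x = 1) → 7 ∣ Nat.card (FE P e) →
      Nat.card B = 8

variable {M : Ideal AlgInt} {G : Type u} [Group G] [Finite G] {B : Set (IrrCharacter G)}
  {P : Subgroup G} {e : (k M)[G]}

theorem Z_main (core : Core.{u}) (hM : IsPModular 2 M) (hB : IsPBlock M B)
    (he : MaxPair 2 ⊤ (eb M B) P e) (hab : P ≤ centralizer (P : Set G)) {z : P}
    (hz : ∀ σ ∈ FE P e, σ z = z) (h8 : (zpowers z).index = 8) (hsq : ∀ x : P, x * x ∈ zpowers z) :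
    Nat.card B = Nat.card P ∧ (∃ u ∈ P, blockRank 2 (sbl 2 P e u) ≤ 3) ∧
      (blockRank 2 B = 1 ∨ blockRank 2 B = 3 ∨ blockRank 2 B = 5 ∨ blockRank 2 B = 7) := by
  have := Fintype.ofFinite P
  have hP := he.bpair.pair.isP
  have hE := not_dvd_FE hM he hab
  have : IsMulCommutative P := ⟨⟨fun a b => Subtype.ext (hab b.2 a a.2)⟩⟩
  rcases B_cases hP (FE P e) hE hz h8 with ⟨h3, hs⟩ | ⟨h7, hs⟩
  · have h3' := Nat.le_of_dvd (by norm_num) h3
    have hl := rank_eq_of_le_three hM _ hB he hab h3' le_rfl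
    refine ⟨C_three hM hB he hab h3' hs, ⟨(1 : P), one_mem _, ?_⟩, ?_⟩
    · rw [rank_sbl_of_le_three hM hB he hab ((C_le _ _).trans h3')]
      exact (C_le _ _).trans h3'
    · rw [hl]
      rcases (Nat.dvd_prime Nat.prime_three).1 h3 with h | h <;> simp [h]
  · obtain ⟨s, hs3, hs13, hE7⟩ : ∃ s, s ≤ 3 ∧ (s = 1 ∨ s = 3) ∧ Nat.card (FE P e) = 7 * s := by
      rcases h7 with h | h
      exacts [⟨1, by norm_num, .inl rfl, h⟩, ⟨3, le_rfl, .inr rfl, h⟩]
    obtain ⟨K, _, _, Q, ρ, b, f, h⟩ := exists_dm hM hB he z (le_Cen_of_comm hab z.2)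
    have := Fintype.ofFinite Q
    have h1 := h.card_FE_eq hM.1 hP hE
    rw [C_St hz, hE7] at h1
    have hi := (zpowers z).index_mul_card
    have hQ : Nat.card Q = 8 := by
      have h2 := h.card_mul
      rw [← hi, h8, Nat.card_zpowers] at h2
      exact Nat.eq_of_mul_eq_mul_right (orderOf_pos z) h2
    have hQ2 : ∀ x ∈ Q, x * x = 1 := fun x hx => by
      obtain ⟨y, hy⟩ := h.surj ⟨x, hx⟩
      have h2 : ρ (y * y) = 1 := by rw [← MonoidHom.mem_ker, h.ker]; exact hsq y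
      rw [map_mul, hy] at h2
      exact congrArg Subtype.val h2
    have hb := core hM h.blk h.max hQ hQ2 (h1 ▸ dvd_mul_right 7 s)
    have hab' := h.comm hab
    have : IsMulCommutative Q := ⟨⟨fun a b => Subtype.ext (hab' b.2 a a.2)⟩⟩
    have h81 : (zpowers (1 : Q)).index = 8 := by rw [zpowers_one_eq_bot, index_bot, hQ]
    have hl : blockRank 2 B + s = 8 := by
      rcases B_cases h.max.bpair.pair.isP (FE Q f) (not_dvd_FE hM h.max hab')
        (fun σ _ => map_one σ) h81 with ⟨h3, -⟩ | ⟨-, hs'⟩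
      · have := Nat.le_of_dvd (by norm_num) h3
        omega
      · have h2 := C_seven hM h.blk h.max hab' (fun σ _ => map_one σ) h81 hs3 h1 hs'
        rw [hb, zpowers_one_eq_bot, card_bot, one_mul, h.rank, rank_sbl_eq hM hB he hab hz] at h2
        exact h2.symm
    refine ⟨?_, ?_, by omega⟩
    · rw [C_seven hM hB he hab hz h8 hs3 hE7 hs, hl, ← hi, h8, mul_comm]
    · obtain ⟨u, hu⟩ : ∃ u, u ∉ zpowers z := by
        by_contra! h2
        rw [(eq_top_iff' _).2 h2, index_top] at h8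
        omega
      have h2 := hs u hu
      exact ⟨u, u.2, by rw [rank_sbl_of_le_three hM hB he hab (by omega)]; omega⟩

theorem Z_final (core : Core.{u}) (hM : IsPModular 2 M) (hB : IsPBlock M B)
    (hD : IsDefectGroup 2 M B P) {n : ℕ} (hn : 2 ≤ n)
    (φ : P ≃* Multiplicative (ZMod (2 ^ n) × ZMod 2 × ZMod 2 × ZMod 2)) :
    Nat.card B = 2 ^ (n + 3) ∧ (∀ χ ∈ B, blockHeight 2 B (χ : G → ℂ) = 0) ∧
      (blockRank 2 B = 1 ∨ blockRank 2 B = 3 ∨ blockRank 2 B = 5 ∨ blockRank 2 B = 7) := by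
  have : Fact (Nat.Prime 2) := ⟨Nat.prime_two⟩
  have := BlockB.charP_k hM
  obtain ⟨e, he⟩ := ((isDefectGroup_iff hM hB P).1 hD).exists_maxPair (isBlk_eb hM hB)
  have hab : P ≤ centralizer (P : Set G) := fun a ha b hb =>
    congrArg Subtype.val (φ.injective (by rw [map_mul, map_mul, mul_comm]) :
      (⟨b, hb⟩ * ⟨a, ha⟩ : P) = ⟨a, ha⟩ * ⟨b, hb⟩)
  have h4 : Nat.card P = 2 ^ (n + 3) := by
    rw [Nat.card_congr φ.toEquiv, Nat.card_congr Multiplicative.toAdd]
    simp only [Nat.card_prod, Nat.card_zmod]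
    ring
  obtain ⟨z, hz, h8, hsq⟩ := A_fix hn φ (FE P e) (not_dvd_FE hM he hab)
  obtain ⟨h1, ⟨u, hu, h2⟩, h3⟩ := Z_main core hM hB he hab hz h8 hsq
  exact ⟨h1.trans h4, H_zero hM hB hD he hab hu h2 h1, h3⟩

end CF.E8b
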